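import Groth.Agent.Lib.Henselian.StrictHenselization
import Groth.Agent.Lib.Henselian.Normal
import Mathlib.RingTheory.Etale.Descent
import Mathlib.RingTheory.Etale.Pi
import Mathlib.RingTheory.Finiteness.Descent
import Mathlib.RingTheory.Localization.BaseChange

/-!
# A finite etale algebra over the fraction field split by the strict henselization is unramified
-/

set_option autoImplicit false
universe u

open TensorProduct IsLocalRing
open Groth.Agent.Lib.Henselian Groth.Agent.Lib.Henselian.Pointed
open Groth.Agent.Lib.Henselian.StrictHenselization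

namespace Groth.Agent.Lib.StrictSplit98.Stage

variable (A : Type u) [CommRing A] [IsDomain A] [IsLocalRing A] [IsIntegrallyClosed A]
variable (K : Type u) [Field K] [Algebra A K] [IsFractionRing A K]

theorem local_props (i : Pt A (SK A)) : IsLocalRing i.Loc ∧ Module.FaithfullyFlat A i.Loc := by
  have hl : IsLocalRing i.Loc := RingHom.domain_isLocalRing (i.α : i.Loc →+* SK A)
  have : IsLocalHom (algebraMap A i.Loc) := ⟨fun a ha => by
    have h := ha.map i.α
    rw [AlgHom.commutes] at h
    exact isUnit_of_algebraMap_SK A h.ne_zero⟩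
  have : Module.Flat i.Alg i.Loc := IsLocalization.flat i.Loc i.units
  have : Module.Flat A i.Loc := Module.Flat.trans A i.Alg i.Loc
  exact ⟨hl, Module.FaithfullyFlat.of_flat_of_isLocalHom⟩

variable (i : Pt A (SK A))

theorem isField_tensor : IsField (i.Loc ⊗[A] K) := by
  have := (local_props A i).1
  exact (Algebra.TensorProduct.congr (AlgEquiv.refl (R := A) (A₁ := i.Loc))
    (FractionRing.algEquiv A K)).symm.toMulEquiv.isField (Normal.isField_tensor i)

theorem includeLeft_injective :
    Function.Injective (fun t : i.Loc => t ⊗ₜ[A] (1 : K)) := by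
  intro t t' h
  apply Normal.includeLeft_injective i
  have := congrArg (Algebra.TensorProduct.congr (AlgEquiv.refl (R := A) (A₁ := i.Loc))
    (FractionRing.algEquiv A K)).symm h
  simpa using this

theorem exists_tmul_one_eq {x : i.Loc ⊗[A] K} (hx : IsIntegral i.Loc x) :
    ∃ t : i.Loc, t ⊗ₜ[A] (1 : K) = x := by
  let e := Algebra.TensorProduct.congr (AlgEquiv.refl (R := i.Loc) (A₁ := i.Loc))
    (FractionRing.algEquiv A K)
  obtain ⟨t, ht⟩ := Normal.exists_tmul_one_eq i (hx.map e.symm)
  exact ⟨t, e.symm.injective (by simpa [e] using ht)⟩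

variable (L : Type u) [Field L] [Algebra A L] [Algebra K L] [IsScalarTower A K L]
variable (E : Type u) [CommRing E] [Algebra K E] [Algebra A E] [IsScalarTower A K E]

/-- If the points of `E` in `L` come from a stage then the integral closure is finite etale. -/
theorem finite_etale_of_stage (g : i.Loc →ₐ[A] L) (hg : Function.Injective g)
    (f : i.Loc ⊗[A] K →ₐ[A] L) (hf : ∀ c k, f (c ⊗ₜ k) = g c * algebraMap K L k)
    {J : Type u} [Finite J] (φ : J → (E →ₐ[A] i.Loc ⊗[A] K)) (hφ : Function.Injective φ)
    (hK : ∀ j k, φ j (algebraMap K E k) = 1 ⊗ₜ k)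
    (hinj : ∀ y : E ⊗[K] L,
      (∀ j, ∀ ψ : E ⊗[K] L →+* L, (∀ e, ψ (e ⊗ₜ 1) = f (φ j e)) → (∀ l, ψ (1 ⊗ₜ l) = l) → ψ y = 0) →
      y = 0) :
    Module.Finite A (integralClosure A E) ∧ Algebra.Etale A (integralClosure A E) := by
  classical
  have := Fintype.ofFinite J
  have hloc := (local_props A i).1
  have hff := (local_props A i).2
  have hF := isField_tensor A K i
  let C := i.Loc
  let F := C ⊗[A] K
  let ψ : J → (C ⊗[A] E →ₐ[C] F) := fun j =>
    Algebra.TensorProduct.lift (Algebra.ofId C F) (φ j) fun _ _ => Commute.all _ _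
  have hψ : ∀ j c e, ψ j (c ⊗ₜ e) = (c ⊗ₜ 1) * φ j e := fun j c e => rfl
  let Φ : C ⊗[A] E →ₐ[C] (J → F) := Pi.algHom C _ ψ
  have hΦ : Function.Injective Φ := by
    let gl : L →ₐ[A] E ⊗[K] L :=
      (Algebra.TensorProduct.includeRight : L →ₐ[K] E ⊗[K] L).restrictScalars A
    let lam : C ⊗[A] E →ₐ[A] E ⊗[K] L := Algebra.TensorProduct.lift (gl.comp g)
      ((Algebra.TensorProduct.includeLeft : E →ₐ[A] E ⊗[K] L)) fun _ _ => Commute.all _ _
    have hlam : Function.Injective lam := by
      have : Module.Flat A K := IsLocalization.flat K (nonZeroDivisors A)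
      have : Module.Flat A E := Module.Flat.trans A K E
      have : CompatibleSMul A K E L :=
        IsLocalization.tensorProduct_compatibleSMul (nonZeroDivisors A) K E L
      let e₁ : C ⊗[A] E →ₗ[A] L ⊗[A] E := LinearMap.rTensor E g.toLinearMap
      have he₁ : Function.Injective e₁ :=
        Module.Flat.rTensor_preserves_injective_linearMap _ hg
      let e₂ : E ⊗[K] L ≃ₗ[K] E ⊗[A] L := (TensorProduct.equivOfCompatibleSMul A K K E L)
      have hcomp : ∀ x, (TensorProduct.comm A E L) (e₂ (lam x)) = e₁ x := fun x => by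
        induction x using TensorProduct.induction_on with
        | zero => simp
        | add x y hx hy => simp only [map_add, hx, hy]
        | tmul c e =>
          have : lam (c ⊗ₜ e) = e ⊗ₜ g c := by simp [lam, gl]
          rw [this]
          rfl
      intro x y h
      exact he₁ (by rw [← hcomp, ← hcomp, h])
    refine (injective_iff_map_eq_zero Φ).2 fun x hx => hlam ?_
    rw [map_zero]
    refine hinj _ fun j χ hχe hχl => ?_
    have h0 : ψ j x = 0 := congrFun hx j
    have : ∀ z, χ (lam z) = f (ψ j z) := fun z => by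
      induction z using TensorProduct.induction_on with
      | zero => simp
      | add x y hx hy => simp only [map_add, hx, hy]
      | tmul c e =>
        rw [hψ, map_mul, hf, map_one, mul_one, ← hχe, ← hχl (g c), ← map_mul]
        simp [lam, gl]
    rw [this, h0, map_zero]
  letI := hF.toField
  have hlift : ∀ (j : J) (z : F), ∃ x : C ⊗[A] E, ∀ l, ψ l x = z := fun j z => by
    induction z using TensorProduct.induction_on with
    | zero => exact ⟨0, fun l => map_zero _⟩
    | add x y hx hy =>
      obtain ⟨a, ha⟩ := hx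
      obtain ⟨b, hb⟩ := hy
      exact ⟨a + b, fun l => by rw [map_add, ha, hb]⟩
    | tmul c k =>
      exact ⟨c ⊗ₜ algebraMap K E k, fun l => by
        rw [hψ, hK, Algebra.TensorProduct.tmul_mul_tmul, mul_one, one_mul]⟩
  have hsep : ∀ j l : J, j ≠ l → ∃ x, ψ j x = 1 ∧ ψ l x = 0 := fun j l hjl => by
    obtain ⟨e, he⟩ : ∃ e, φ j e ≠ φ l e := by
      by_contra! hc
      exact hjl (hφ (AlgHom.ext hc))
    obtain ⟨a, ha⟩ := hlift j (φ l e)
    obtain ⟨b, hb⟩ := hlift j (φ j e - φ l e)⁻¹
    refine ⟨((1 : C) ⊗ₜ e - a) * b, ?_, ?_⟩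
    · rw [map_mul, map_sub, hψ, ha, hb, ← Algebra.TensorProduct.one_def, one_mul,
        mul_inv_cancel₀ (sub_ne_zero.2 he)]
    · rw [map_mul, map_sub, hψ, ha, hb, ← Algebra.TensorProduct.one_def, one_mul, sub_self, zero_mul]
  have hidem : ∀ j, ∃ x, Φ x = Pi.single j 1 := fun j => by
    choose! x hx1 hx0 using fun l (h : j ≠ l) => hsep j l h
    refine ⟨∏ l ∈ Finset.univ.erase j, x l, funext fun l => ?_⟩
    show ψ l _ = _
    rw [map_prod]
    rcases eq_or_ne l j with rfl | hlj
    · rw [Pi.single_eq_same]
      exact Finset.prod_eq_one fun m hm => hx1 m (Finset.ne_of_mem_erase hm).symm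
    · rw [Pi.single_eq_of_ne hlj]
      exact Finset.prod_eq_zero (Finset.mem_erase.2 ⟨hlj, Finset.mem_univ _⟩) (hx0 l hlj.symm)
  choose ε hε using hidem
  have hεint : ∀ j, IsIntegral C (ε j) := fun j => by
    refine ⟨Polynomial.X ^ 2 - Polynomial.X, Polynomial.monic_X_pow_sub (by simp), hΦ ?_⟩
    rw [map_zero, ← Polynomial.aeval_def]
    rw [map_sub, Polynomial.aeval_X_pow, Polynomial.aeval_X, map_sub, map_pow, hε, sq, ← Pi.single_mul,
      one_mul, sub_self]
  let ι : (J → C) →ₐ[C] (J → F) := Pi.algHom C _ fun j =>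
    (Algebra.ofId C F).comp (Pi.evalAlgHom C (fun _ => C) j)
  have hι : Function.Injective ι := fun a b h => funext fun j =>
    includeLeft_injective A K i (congrFun h j)
  let ρ : integralClosure C (C ⊗[A] E) →ₐ[C] (J → F) := Φ.comp (integralClosure C _).val
  have hρ : Function.Injective ρ := hΦ.comp Subtype.val_injective
  have hrange : ρ.range = ι.range := by
    ext z
    constructor
    · rintro ⟨⟨y, hy⟩, rfl⟩
      choose c hc using fun j => exists_tmul_one_eq A K i (IsIntegral.map (ψ j) hy)
      exact ⟨c, funext hc⟩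
    · rintro ⟨c, rfl⟩
      refine ⟨⟨∑ j, c j • ε j, IsIntegral.sum _ fun j _ => (hεint j).smul _⟩, funext fun l => ?_⟩
      show Φ (∑ j, c j • ε j) l = c l ⊗ₜ 1
      rw [map_sum, Finset.sum_apply, Finset.sum_eq_single l]
      · rw [map_smul, hε, Pi.smul_apply, Pi.single_eq_same, Algebra.smul_def, mul_one]
        rfl
      · intro m _ hm
        rw [map_smul, hε, Pi.smul_apply, Pi.single_eq_of_ne hm.symm, smul_zero]
      · simp
  let e : (J → C) ≃ₐ[C] integralClosure C (C ⊗[A] E) :=
    (AlgEquiv.ofInjective ι hι).trans ((Subalgebra.equivOfEq _ _ hrange.symm).trans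
      (AlgEquiv.ofInjective ρ hρ).symm)
  have H := TensorProduct.toIntegralClosure_bijective_of_smooth (R := A) (S := i.Alg) (B := E)
  have H' := TensorProduct.toIntegralClosure_bijective_of_isLocalization (R := i.Alg) (S := C)
    (B := i.Alg ⊗[A] E) i.units
  let e' := e.trans (AlgEquiv.ofBijective _ (TensorProduct.toIntegralClosure_bijective_of_tower H H')).symm
  have : Algebra.Etale C (C ⊗[A] integralClosure A E) := Algebra.Etale.of_equiv e'
  have : Module.Finite C (C ⊗[A] integralClosure A E) := Module.Finite.equiv e'.toLinearEquiv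
  exact ⟨Module.Finite.of_finite_tensorProduct_of_faithfullyFlat C,
    Algebra.Etale.of_etale_tensorProduct_of_faithfullyFlat C⟩

variable (R : Type u) [CommRing R] [IsLocalRing R] [Algebra A R] [IsLocalHom (algebraMap A R)]
  [Hensel.IsStrictHenselization A R] [Algebra R L] [IsFractionRing R L] [IsScalarTower A R L]

include R in
/-- If the points of `E` in the fraction field of a strict henselization are jointly faithful, then
the integral closure of the normal local ring in `E` is finite etale. -/
theorem finite_etale [FiniteDimensional K E] {m : ℕ} (χ : Fin m → (E →ₐ[K] L))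
    (hinj : ∀ y : E ⊗[K] L,
      (∀ j, ∀ ψ : E ⊗[K] L →+* L, (∀ e, ψ (e ⊗ₜ 1) = χ j e) → (∀ l, ψ (1 ⊗ₜ l) = l) → ψ y = 0) →
      y = 0) :
    Module.Finite A (integralClosure A E) ∧ Algebra.Etale A (integralClosure A E) := by
  classical
  let eR := equivOfIsStrictHenselization A R
  let b := Module.finBasis K E
  choose num den hden hdiv using fun p : Fin m × Fin (Module.finrank K E) =>
    IsFractionRing.div_surjective R (χ p.1 (b p.2))
  let s : Finset (StrictHenselization A) :=
    Finset.univ.image (fun p => eR.symm (num p)) ∪ Finset.univ.image (fun p => eR.symm (den p))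
  obtain ⟨A', _, _, _, φ, hφ⟩ := Lim.exists_etale_range s
  obtain ⟨i, ψ, hψ⟩ := Lim.exists_factor φ
  have := (local_props A i).1
  have hF := isField_tensor A K i
  let g : i.Loc →ₐ[A] L := (IsScalarTower.toAlgHom A R L).comp (eR.toAlgHom.comp (Lim.of i))
  let f : i.Loc ⊗[A] K →ₐ[A] L := Algebra.TensorProduct.productMap g (IsScalarTower.toAlgHom A K L)
  have hfi : Function.Injective f := by
    letI := hF.toField
    exact f.toRingHom.injective
  have hgi : Function.Injective g := fun a b h => includeLeft_injective A K i (hfi (by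
    simp [f, h]))
  have hmem : ∀ r ∈ s, algebraMap R L (eR r) ∈ f.range := fun r hr => by
    obtain ⟨z, rfl⟩ := hφ hr
    refine ⟨ψ z ⊗ₜ 1, ?_⟩
    show f (ψ z ⊗ₜ 1) = _
    simp [f, g, ← hψ]
  have hdivmem : ∀ a c : L, a ∈ f.range → c ∈ f.range → a / c ∈ f.range := by
    rintro _ _ ⟨a, rfl⟩ ⟨c, rfl⟩
    letI := hF.toField
    exact ⟨a / c, map_div₀ f.toRingHom a c⟩
  have hbr : ∀ j k, χ j (b k) ∈ f.range := fun j k => by
    rw [← hdiv (j, k)]
    refine hdivmem _ _ ?_ ?_
    · simpa using hmem (eR.symm (num (j, k)))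
        (Finset.mem_union_left _ (Finset.mem_image_of_mem _ (Finset.mem_univ _)))
    · simpa using hmem (eR.symm (den (j, k)))
        (Finset.mem_union_right _ (Finset.mem_image_of_mem _ (Finset.mem_univ _)))
  have hall : ∀ j e, χ j e ∈ f.range := fun j e => by
    rw [← b.sum_repr e, map_sum]
    refine Subalgebra.sum_mem _ fun k _ => ?_
    rw [map_smul, Algebra.smul_def]
    exact Subalgebra.mul_mem _ ⟨1 ⊗ₜ b.repr e k, by simp [f]⟩ (hbr j k)
  let J := ULift.{u} (Fin m)
  let φ' : Fin m → (E →ₐ[A] i.Loc ⊗[A] K) := fun j =>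
    ((AlgEquiv.ofInjective f hfi).symm.toAlgHom).comp
      (((χ j).restrictScalars A).codRestrict f.range (hall j))
  have hφ' : ∀ j e, f (φ' j e) = χ j e := fun j e =>
    congrArg Subtype.val ((AlgEquiv.ofInjective f hfi).apply_symm_apply
      ⟨χ j e, hall j e⟩)
  refine finite_etale_of_stage A K i L E g hgi f (fun c k => rfl)
    (J := ULift.{u} (Set.range φ')) (fun j => j.down.1)
    (fun a b h => ULift.ext _ _ (Subtype.ext h)) (fun j k => ?_) fun y hy => ?_
  · obtain ⟨j', hj'⟩ := j.down.2
    show j.down.1 (algebraMap K E k) = _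
    rw [← hj']
    apply hfi
    rw [hφ', AlgHom.commutes]
    simp [f]
  · refine hinj y fun j ω hωe hωl => hy ⟨⟨φ' j, j, rfl⟩⟩ ω (fun e => ?_) hωl
    rw [hωe]
    exact (hφ' j e).symm

/-- The integral closure spans `E` over the fraction field. -/
theorem bijective_productMap [FiniteDimensional K E] :
    Function.Bijective (Algebra.TensorProduct.productMap (integralClosure A E).val
      (IsScalarTower.toAlgHom A K E)) := by
  let B := integralClosure A E
  let π := Algebra.TensorProduct.productMap B.val (IsScalarTower.toAlgHom A K E)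
  have : Module.Flat A K := IsLocalization.flat K (nonZeroDivisors A)
  have hnorm : ∀ x : E ⊗[A] K, x = (Algebra.TensorProduct.productMap (AlgHom.id A E)
      (IsScalarTower.toAlgHom A K E) x) ⊗ₜ 1 := fun x => by
    induction x using TensorProduct.induction_on with
    | zero => simp
    | add x y hx hy => rw [map_add, TensorProduct.add_tmul, ← hx, ← hy]
    | tmul e k =>
      have : CompatibleSMul A K E K :=
        IsLocalization.tensorProduct_compatibleSMul (nonZeroDivisors A) K E K
      simp only [Algebra.TensorProduct.productMap_apply_tmul, AlgHom.id_apply]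
      rw [IsScalarTower.toAlgHom_apply, mul_comm, ← Algebra.smul_def, TensorProduct.smul_tmul,
        smul_eq_mul, mul_one]
  refine ⟨fun x y h => ?_, fun e => ?_⟩
  · refine Module.Flat.rTensor_preserves_injective_linearMap (M := K) B.val.toLinearMap
      Subtype.val_injective ?_
    have key : ∀ z, (Algebra.TensorProduct.productMap (AlgHom.id A E)
        (IsScalarTower.toAlgHom A K E)) (LinearMap.rTensor K B.val.toLinearMap z) = π z := fun z => by
      induction z using TensorProduct.induction_on with
      | zero => simp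
      | add x y hx hy => simp only [map_add, hx, hy]
      | tmul b k => rfl
    rw [hnorm (LinearMap.rTensor K B.val.toLinearMap x),
      hnorm (LinearMap.rTensor K B.val.toLinearMap y), key, key]
    exact congrArg (· ⊗ₜ[A] (1 : K)) h
  · have halg : IsAlgebraic A e :=
      (IsFractionRing.isAlgebraic_iff A K E).2 (Algebra.IsAlgebraic.isAlgebraic e)
    obtain ⟨a, ha, hint⟩ := IsAlgebraic.exists_integral_multiple halg
    refine ⟨⟨a • e, hint⟩ ⊗ₜ (algebraMap A K a)⁻¹, ?_⟩
    show a • e * algebraMap K E (algebraMap A K a)⁻¹ = e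
    rw [← algebraMap_smul K a e, Algebra.smul_def, mul_right_comm, ← map_mul,
      mul_inv_cancel₀ ((map_ne_zero_iff _ (IsFractionRing.injective A K)).2 ha), map_one, one_mul]

end Groth.Agent.Lib.StrictSplit98.Stage
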